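import Groth.Agent.Lib.AbTors.Count
import Mathlib.RingTheory.AdicCompletion.Functoriality
import Mathlib.LinearAlgebra.FreeModule.PID

/-!
# The Tate module of an abelian variety
-/

universe u

open CategoryTheory CategoryTheory.Limits MonoidalCategory CartesianMonoidalCategory AlgebraicGeometry
open scoped MonObj

set_option backward.isDefEq.respectTransparency false

noncomputable section

namespace GrothLib.AbTors

open AbDual

variable {K : Type u} [Field K] (A : Over (Spec (CommRingCat.of K))) [GrpObj A] [IsCommMonObj A] [IsProper A.hom]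
  [GeometricallyIntegral A.hom] {Ω : Type u} [Field Ω] [IsAlgClosed Ω]
  (σ : Spec (CommRingCat.of Ω) ⟶ Spec (CommRingCat.of K))

theorem exists_dim : ∃ g : ℕ, topologicalKrullDim A.left = (g : WithBot ℕ∞) := by
  haveI : IsIntegral A.left := GeometricallyIntegral.isIntegral_of_subsingleton A.hom
  obtain ⟨g, hg, -⟩ := GrothLib.Dim.dim_closure_range_eq (𝟙 A.left) A.hom
  exact ⟨g, hg⟩

/-- Every geometric point is an `n`-th power for `n` invertible. -/
theorem exists_pow_eq {n : ℕ} (hn : (n : K) ≠ 0) (a : Over.mk σ ⟶ A) : ∃ b : Over.mk σ ⟶ A, b ^ n = a := by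
  obtain ⟨hf, he, -⟩ := AbMul.isFinite_etale_surjective_pow A (n : ℤ) (by exact_mod_cast hn)
  rw [zpow_natCast] at hf he
  obtain ⟨g, hg⟩ := exists_dim A
  let Y : FEt.Cat A.left :=
    MorphismProperty.Over.mk ⊤ ((𝟙 A : A ⟶ A) ^ n).left (GrothLib.FEt21.prop_of _)
  have hn0 : n ≠ 0 := by rintro rfl; exact hn (by simp)
  haveI : Nonempty (FEt.fiberObj (Ω := Ω) a.left Y) := by
    refine (Nat.card_ne_zero.1 ?_).1
    rw [GrothLib.FEt21.card_fiber]
    refine ne_of_eq_of_ne (finrank_pow A hg hn0 _) ?_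
    exact pow_ne_zero _ hn0
  obtain ⟨s, hs⟩ := ‹Nonempty (FEt.fiberObj (Ω := Ω) a.left Y)›
  have hs' : s ≫ ((𝟙 A : A ⟶ A) ^ n).left = a.left := hs
  refine ⟨Over.homMk s ?_, ?_⟩
  · rw [← Over.w ((𝟙 A : A ⟶ A) ^ n), ← Category.assoc, hs']
    exact Over.w a
  · rw [← pow_comp_eq]
    ext1
    exact hs'

variable (l : ℕ) [hl : Fact l.Prime]

/-- The components of the Tate module are surjective onto the torsion points. -/
theorem exists_component_eq (hlK : (l : K) ≠ 0) (n : ℕ) {x : Additive (Over.mk σ ⟶ A)} (hx : (l ^ n) • x = 0) :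
    ∃ z : TateMod A l (Over.mk σ), (z : ℕ → Additive (Over.mk σ ⟶ A)) n = x := by
  have hdiv : ∀ y : Additive (Over.mk σ ⟶ A), ∃ y', l • y' = y := fun y => by
    obtain ⟨b, hb⟩ := exists_pow_eq A σ hlK y.toMul
    exact ⟨Additive.ofMul b, congrArg Additive.ofMul hb⟩
  choose root hroot using hdiv
  let y : ℕ → Additive (Over.mk σ ⟶ A) := fun i => root^[i] x
  have hy : ∀ i, l • y (i + 1) = y i := fun i => by
    show l • root^[i + 1] x = root^[i] x
    rw [Function.iterate_succ_apply']
    exact hroot _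
  have hy' : ∀ i, (l ^ i) • y i = x := by
    intro i
    induction i with
    | zero => simp [y]
    | succ i ih => rw [pow_succ, mul_nsmul, smul_comm, hy]; exact ih
  refine ⟨⟨fun i => (l ^ n) • y i, fun i => ?_, fun i => ?_⟩, hy' n⟩
  · rw [smul_comm, hy', hx]
  · rw [smul_comm, hy]

/-- An element with vanishing `n`-th component is a multiple of `l^n`. -/
theorem exists_eq_pow_smul {n : ℕ} (z : TateMod A l (Over.mk σ))
    (hz : (z : ℕ → Additive (Over.mk σ ⟶ A)) n = 0) : ∃ w : TateMod A l (Over.mk σ), z = (l ^ n) • w := by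
  have hshift : ∀ i j : ℕ, (l ^ i) • (z : ℕ → Additive (Over.mk σ ⟶ A)) (i + j) = (z : ℕ → _) j := by
    intro i
    induction i with
    | zero => intro j; simp
    | succ i ih =>
      intro j
      rw [pow_succ, show i + 1 + j = (i + j) + 1 by omega, mul_nsmul', z.compat, ih]
  refine ⟨⟨fun i => (z : ℕ → _) (i + n), fun i => by rw [hshift, hz], fun i => ?_⟩, TateMod.ext fun i => ?_⟩
  · show l • (z : ℕ → Additive (Over.mk σ ⟶ A)) (i + 1 + n) = (z : ℕ → _) (i + n)
    rw [show i + 1 + n = (i + n) + 1 by omega, z.compat]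
  · show (z : ℕ → Additive (Over.mk σ ⟶ A)) i = (l ^ n) • (z : ℕ → Additive (Over.mk σ ⟶ A)) (i + n)
    rw [add_comm, hshift]

theorem natCast_smul_tate (m : ℕ) (x : TateMod A l (Over.mk σ)) : ((m : ℤ_[l]) • x) = m • x :=
  Nat.cast_smul_eq_nsmul ℤ_[l] m x

theorem component_nsmul (m n : ℕ) (x : TateMod A l (Over.mk σ)) :
    ((m • x : TateMod A l (Over.mk σ)) : ℕ → Additive (Over.mk σ ⟶ A)) n = m • (x : ℕ → _) n :=
  map_nsmul (TateMod.component A l (Over.mk σ) n) m x

/-- The Tate module is torsion free. -/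
theorem eq_zero_of_smul_eq_zero (x : TateMod A l (Over.mk σ)) (h : l • x = 0) : x = 0 := by
  refine TateMod.ext fun n => ?_
  rw [← x.compat n, ← component_nsmul, h]
  rfl

instance instIsTorsionFree : Module.IsTorsionFree ℤ_[l] (TateMod A l (Over.mk σ)) := by
  refine .mk fun a ha x y hxy => ?_
  have ha0 : a ≠ 0 := ha.ne_zero
  have key : ∀ (m : ℕ) (v : TateMod A l (Over.mk σ)), (l ^ m) • v = 0 → v = 0 := by
    intro m
    induction m with
    | zero => intro v hv; simpa using hv
    | succ m ih =>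
      intro v hv
      refine ih v (eq_zero_of_smul_eq_zero A σ l _ ?_)
      rw [← mul_nsmul', ← pow_succ']
      exact hv
  have h0 : a • (x - y) = 0 := by rw [smul_sub, sub_eq_zero]; exact hxy
  rw [PadicInt.unitCoeff_spec ha0, mul_smul, ← Nat.cast_pow, natCast_smul_tate] at h0
  exact sub_eq_zero.1 (key a.valuation _ ((Units.isUnit _).smul_eq_zero.1 h0))

theorem isPrecomplete_pi (J : Type) [Finite J] :
    IsPrecomplete (IsLocalRing.maximalIdeal ℤ_[l]) (J → ℤ_[l]) := by
  refine ⟨fun x hx => ?_⟩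
  have key : ∀ (n : ℕ) (v : J → ℤ_[l]), v ∈ (IsLocalRing.maximalIdeal ℤ_[l]) ^ n • (⊤ : Submodule ℤ_[l] (J → ℤ_[l])) ↔
      ∀ i, v i ∈ (IsLocalRing.maximalIdeal ℤ_[l]) ^ n := by
    intro n v
    refine ⟨fun h i => ?_, fun h => ?_⟩
    · have h2 := Submodule.mem_map_of_mem (f := (LinearMap.proj i : (J → ℤ_[l]) →ₗ[ℤ_[l]] ℤ_[l])) h
      rw [Submodule.map_smul''] at h2
      have h3 := (Submodule.smul_mono le_rfl le_top) h2
      rw [smul_eq_mul, ← Ideal.one_eq_top, mul_one] at h3
      exact h3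
    · rw [PadicInt.maximalIdeal_eq_span_p, Ideal.span_singleton_pow] at h ⊢
      choose w hw using fun i => Ideal.mem_span_singleton'.1 (h i)
      rw [show v = ((l : ℤ_[l]) ^ n) • w from funext fun i => by rw [Pi.smul_apply, smul_eq_mul, mul_comm, hw]]
      exact Submodule.smul_mem_smul (Ideal.mem_span_singleton_self _) Submodule.mem_top
  have hc : ∀ i, ∀ {m n}, m ≤ n → x m i ≡ x n i [SMOD (IsLocalRing.maximalIdeal ℤ_[l]) ^ m • (⊤ : Submodule ℤ_[l] ℤ_[l])] := by
    intro i m n hmn
    have h := (SModEq.sub_mem).1 (hx hmn)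
    rw [key] at h
    rw [SModEq.sub_mem, smul_eq_mul, ← Ideal.one_eq_top, mul_one]
    exact h i
  choose L hL using fun i => IsPrecomplete.prec (I := IsLocalRing.maximalIdeal ℤ_[l]) inferInstance (hc i)
  refine ⟨L, fun n => ?_⟩
  rw [SModEq.sub_mem, key]
  intro i
  have h := (SModEq.sub_mem).1 (hL i n)
  rw [smul_eq_mul, ← Ideal.one_eq_top, mul_one] at h
  exact h

theorem component_sub (n : ℕ) (x y : TateMod A l (Over.mk σ)) :
    ((x - y : TateMod A l (Over.mk σ)) : ℕ → Additive (Over.mk σ ⟶ A)) n = (x : ℕ → _) n - (y : ℕ → _) n := rfl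

/-- The Tate module is finitely generated. -/
theorem module_finite (hlK : (l : K) ≠ 0) : Module.Finite ℤ_[l] (TateMod A l (Over.mk σ)) := by
  obtain ⟨g, hg⟩ := exists_dim A
  have hcard := card_torsPts A hg hlK σ
  haveI : Finite (torsPts A l (Over.mk σ)) := Nat.finite_of_card_ne_zero (by
    rw [hcard]; exact pow_ne_zero _ hl.out.ne_zero)
  obtain ⟨r, ⟨e⟩⟩ := Finite.exists_equiv_fin (torsPts A l (Over.mk σ))
  have hlift : ∀ i : Fin r, ∃ z : TateMod A l (Over.mk σ),
      (z : ℕ → Additive (Over.mk σ ⟶ A)) 1 = Additive.ofMul (e.symm i).1 := fun i =>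
    exists_component_eq A σ l hlK 1 (by rw [pow_one]; exact congrArg Additive.ofMul (e.symm i).2)
  choose b hb using hlift
  let f := Fintype.linearCombination ℤ_[l] b
  haveI := isPrecomplete_pi l (Fin r)
  haveI : IsHausdorff (IsLocalRing.maximalIdeal ℤ_[l]) (TateMod A l (Over.mk σ)) := by
    refine ⟨fun x hx => TateMod.ext fun n => ?_⟩
    have h := (SModEq.zero).1 (hx n)
    rw [PadicInt.maximalIdeal_eq_span_p, Ideal.span_singleton_pow, Submodule.ideal_span_singleton_smul,
      Submodule.mem_smul_pointwise_iff_exists] at h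
    obtain ⟨w, -, rfl⟩ := h
    rw [← Nat.cast_pow, natCast_smul_tate, component_nsmul, w.torsion]
    rfl
  refine Module.Finite.of_surjective f (surjective_of_mkQ_comp_surjective (I := IsLocalRing.maximalIdeal ℤ_[l]) ?_)
  intro q
  obtain ⟨z, rfl⟩ := Submodule.mkQ_surjective _ q
  have hz1 : ((z : ℕ → Additive (Over.mk σ ⟶ A)) 1).toMul ∈ torsPts A l (Over.mk σ) := by
    have := TateMod.component_mem z 1
    rwa [pow_one] at this
  let i := e ⟨_, hz1⟩
  refine ⟨Pi.single i 1, ?_⟩
  rw [LinearMap.comp_apply, Submodule.mkQ_apply, Submodule.mkQ_apply, Submodule.Quotient.eq]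
  obtain ⟨w, hw⟩ := exists_eq_pow_smul A σ l (n := 1) (f (Pi.single i 1) - z) (by
    rw [component_sub, Fintype.linearCombination_apply_single, one_smul, hb]
    simp [i])
  rw [hw, pow_one, ← natCast_smul_tate]
  exact Submodule.smul_mem_smul (by rw [PadicInt.maximalIdeal_eq_span_p]; exact Ideal.mem_span_singleton_self _)
    Submodule.mem_top

/-- The Tate module has rank `2g`. -/
theorem finrank_eq (hlK : (l : K) ≠ 0) {g : ℕ} (hg : topologicalKrullDim A.left = (g : WithBot ℕ∞)) :
    Module.finrank ℤ_[l] (TateMod A l (Over.mk σ)) = 2 * g := by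
  haveI := module_finite A σ l hlK
  haveI : Module.Free ℤ_[l] (TateMod A l (Over.mk σ)) := Module.free_of_finite_type_torsion_free'
  let r := Module.finrank ℤ_[l] (TateMod A l (Over.mk σ))
  let b := Module.finBasis ℤ_[l] (TateMod A l (Over.mk σ))
  let val : (Fin r → ZMod l) → TateMod A l (Over.mk σ) := fun c => ∑ i, (((c i).val : ℕ) : ℤ_[l]) • b i
  let Ψ : (Fin r → ZMod l) → torsPts A l (Over.mk σ) := fun c => ⟨((val c : ℕ → Additive _) 1).toMul, by
    have := TateMod.component_mem (val c) 1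
    rwa [pow_one] at this⟩
  have hker : ∀ a : ℤ_[l], PadicInt.toZMod a = 0 → ∃ w, a = (l : ℤ_[l]) * w := by
    intro a ha
    have : a ∈ RingHom.ker (PadicInt.toZMod (p := l)) := ha
    rw [PadicInt.ker_toZMod, PadicInt.maximalIdeal_eq_span_p, Ideal.mem_span_singleton] at this
    exact this
  have hrepr : ∀ c i, b.repr (val c) i = (((c i).val : ℕ) : ℤ_[l]) := fun c i => by
    rw [show val c = ∑ i, (((c i).val : ℕ) : ℤ_[l]) • b i from rfl, Module.Basis.repr_sum_self]
  have hinj : Function.Injective Ψ := by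
    intro c c' h
    obtain ⟨w, hw⟩ := exists_eq_pow_smul A σ l (n := 1) (val c - val c') (by
      rw [component_sub, sub_eq_zero]
      exact congrArg (fun t : torsPts A l (Over.mk σ) => Additive.ofMul t.1) h)
    funext i
    have h2 := congrArg (fun v => PadicInt.toZMod (b.repr v i)) hw
    rw [pow_one, ← natCast_smul_tate] at h2
    simp only [map_sub, Finsupp.sub_apply, map_smul, Finsupp.smul_apply, smul_eq_mul, map_mul, hrepr, map_natCast,
      ZMod.natCast_self, zero_mul, sub_eq_zero] at h2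
    rwa [ZMod.natCast_zmod_val, ZMod.natCast_zmod_val] at h2
  have hsurj : Function.Surjective Ψ := by
    rintro ⟨y, hy⟩
    obtain ⟨z, hz⟩ := exists_component_eq A σ l hlK 1 (x := Additive.ofMul y) (by
      rw [pow_one]; exact congrArg Additive.ofMul hy)
    let c : Fin r → ZMod l := fun i => PadicInt.toZMod (b.repr z i)
    refine ⟨c, Subtype.ext ?_⟩
    choose w hw using fun i => hker (b.repr z i - (((c i).val : ℕ) : ℤ_[l])) (by
      rw [map_sub, map_natCast, ZMod.natCast_zmod_val, sub_self])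
    have hdiff : z - val c = (l : ℤ_[l]) • ∑ i, w i • b i := by
      rw [Finset.smul_sum]
      conv_lhs => rw [← b.sum_repr z]
      rw [← Finset.sum_sub_distrib]
      refine Finset.sum_congr rfl fun i _ => ?_
      rw [← sub_smul, hw i, mul_smul]
    have h1 : (Subtype.val (z - val c) : ℕ → Additive (Over.mk σ ⟶ A)) 1 = 0 := by
      rw [hdiff, natCast_smul_tate, component_nsmul]
      simpa using (∑ i, w i • b i : TateMod A l (Over.mk σ)).torsion 1
    rw [component_sub, hz, sub_eq_zero] at h1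
    exact (congrArg Additive.toMul h1).symm
  have h := Nat.card_eq_of_bijective Ψ ⟨hinj, hsurj⟩
  rw [card_torsPts A hg hlK σ, Nat.card_fun, Nat.card_zmod, Nat.card_fin] at h
  exact Nat.pow_right_injective hl.out.two_le h

end GrothLib.AbTors
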