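import Groth.Agent.Lib.Cube.MulFinite
import Groth.Agent.Lib.AbTors.Tate

/-!
# Homomorphisms without a connected kernel are finite; Tate maps
-/

universe u

open CategoryTheory CategoryTheory.Limits MonoidalCategory CartesianMonoidalCategory AlgebraicGeometry
open TopologicalSpace
open scoped MonObj

set_option backward.isDefEq.respectTransparency false

noncomputable section

namespace GrothLib.AbTors

variable {K : Type u} [Field K]

section Fin

variable [IsAlgClosed K] {A B : Over (Spec (CommRingCat.of K))} [GrpObj A] [IsProper A.hom]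
  [GeometricallyIntegral A.hom] [GrpObj B] [IsProper B.hom]

/-- A homomorphism killing no positive dimensional connected subgroup is finite. -/
theorem isFinite_of_forall_subgroup (f : A ⟶ B) [IsMonHom f]
    (h : ∀ (C : Over (Spec (CommRingCat.of K))) [GrpObj C] [IsProper C.hom] [GeometricallyIntegral C.hom]
      (i : C ⟶ A) [IsMonHom i] [IsClosedImmersion i.left], i ≫ f = 1 → Subsingleton C.left) :
    IsFinite f.left := by
  haveI : IsIntegral A.left := GeometricallyIntegral.isIntegral_of_subsingleton A.hom
  haveI : IsProper f.left := by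
    have : IsProper (f.left ≫ B.hom) := by rw [Over.w]; infer_instance
    exact IsProper.of_comp f.left B.hom
  obtain ⟨d, hd⟩ := Groth.Agent.S7799.result K A B.hom f.left (Over.w f)
  let eA := η[A].left (IsLocalRing.closedPoint K)
  let e := η[B].left (IsLocalRing.closedPoint K)
  have hfe : f.left eA = e := by
    rw [← Scheme.Hom.comp_apply, ← Over.comp_left, IsMonHom.one_hom]
  let F : (𝟙_ (Over (Spec (CommRingCat.of K))) ⟶ A) →* (𝟙_ (Over (Spec (CommRingCat.of K))) ⟶ B) :=
    { toFun := fun a => a ≫ f
      map_one' := MonObj.one_comp f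
      map_mul' := fun a b => MonObj.mul_comp a b f }
  have hec : IsClosed ({e} : Set B.left) := Rigidity.isClosed_point η[B]
  have hd0 : d = 0 := by
    let z := (f.left.fiberHomeo e).symm ⟨eA, hfe⟩
    have hz : f.left.fiberι e z = eA := f.left.fiberι_fiberHomeo_symm e ⟨eA, hfe⟩
    let C := irreducibleComponent z
    have hC : C ∈ irreducibleComponents ↥(f.left.fiber e) := irreducibleComponent_mem_irreducibleComponents z
    let V : Set A.left := closure (f.left.fiberι e '' C)
    have hVk : V ⊆ f.left ⁻¹' {e} := closure_minimal (by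
      rintro _ ⟨w, -, rfl⟩
      exact (f.left.range_fiberι e).le ⟨w, rfl⟩) (hec.preimage f.left.continuous)
    obtain ⟨W, _, i, hi, hic, hWi, hVW, hker⟩ := Rigidity.exists_subgroup_of_irreducible A F V isClosed_closure
      ((hC.1.image _ (f.left.fiberι e).continuous.continuousOn).closure) (by
        rintro _ ⟨s, rfl⟩
        rw [Subsingleton.elim (α := ↥(Spec (CommRingCat.of K))) s (IsLocalRing.closedPoint K)]
        exact subset_closure ⟨z, mem_irreducibleComponent, hz⟩)
      (fun a ha => Over.OverMorphism.ext (ext_of_apply_closedPoint_eq B.hom (Over.w (a ≫ f))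
        (Over.w (1 : 𝟙_ (Over (Spec (CommRingCat.of K))) ⟶ B)) (by
          show (a ≫ f).left (IsLocalRing.closedPoint K) = _
          rw [Over.comp_left, Scheme.Hom.comp_apply, show f.left (a.left (IsLocalRing.closedPoint K)) = η[B].left (IsLocalRing.closedPoint K) from
            hVk (ha ⟨_, rfl⟩), MonObj.one_eq_one]; rfl)))
    haveI : IsProper W.hom := by
      rw [← Over.w i]; infer_instance
    haveI := GrothLib.Cube.geometricallyIntegral_of_isAlgClosed W
    have h1 : i ≫ f = 1 := Rigidity.ext_of_points _ _ fun p => by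
      rw [← Category.assoc, MonObj.comp_one]
      exact hker p
    have := h W i h1
    have hVsub : V.Subsingleton := by
      intro v hv w hw
      obtain ⟨v', rfl⟩ := hVW hv
      obtain ⟨w', rfl⟩ := hVW hw
      rw [Subsingleton.elim v' w']
    have hCsub : C.Subsingleton := fun a ha b hb => (f.left.fiberι e).isEmbedding.injective
      (hVsub (subset_closure ⟨a, ha, rfl⟩) (subset_closure ⟨b, hb, rfl⟩))
    have hle : topologicalKrullDim C ≤ 0 := by
      refine Order.krullDim_nonpos_iff_forall_isMin.2 fun T T' _ => ?_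
      intro x hx
      obtain ⟨y, hy⟩ := T'.isIrreducible.nonempty
      have : x = y := Subtype.ext (hCsub x.2 y.2)
      exact this ▸ hy
    rw [hd e C hC] at hle
    exact Nat.le_zero.1 (by exact_mod_cast hle)
  subst hd0
  have : LocallyQuasiFinite f.left := .of_finite_preimage_singleton f.left fun y => by
    let g : f.left.fiber y ⟶ Spec (CommRingCat.of (B.left.residueField y)) := f.left.fiberToSpecResidueField y
    have : LocallyOfFiniteType g := MorphismProperty.pullback_snd f.left (B.left.fromSpecResidueField y) inferInstance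
    have : IsLocallyNoetherian (f.left.fiber y) := LocallyOfFiniteType.isLocallyNoetherian g
    have : IsNoetherian (f.left.fiber y) := {}
    have : Finite ↥(f.left.fiber y) := by
      rw [← Set.finite_univ_iff, show (Set.univ : Set ↥(f.left.fiber y)) =
        ⋃ C ∈ irreducibleComponents ↥(f.left.fiber y), C from (Set.eq_univ_of_forall fun z => Set.mem_biUnion
          (irreducibleComponent_mem_irreducibleComponents z) mem_irreducibleComponent).symm]
      exact NoetherianSpace.finite_irreducibleComponents.biUnion fun C hC =>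
        (Dim.subsingleton_of_dim_eq_zero (isClosed_of_mem_irreducibleComponents C hC) hC.1 (by rw [hd y C hC]; simp)).finite
    rw [← f.left.range_fiberι y]
    exact Set.finite_range _
  exact IsFinite.of_isProper_of_locallyQuasiFinite f.left

end Fin

section Tate

open AbDual

variable {A B : Over (Spec (CommRingCat.of K))} [GrpObj A] [IsCommMonObj A] [GrpObj B] [IsCommMonObj B]
  {Ω : Type u} [Field Ω] [IsAlgClosed Ω] (σ : Spec (CommRingCat.of Ω) ⟶ Spec (CommRingCat.of K))

theorem tateMap_apply_component (l : ℕ) [Fact l.Prime] (f : A ⟶ B) [IsMonHom f] (z : TateMod A l (Over.mk σ))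
    (n : ℕ) : ((tateMapₗ (l := l) f z : TateMod B l (Over.mk σ)) : ℕ → Additive (Over.mk σ ⟶ B)) n =
      Additive.ofMul (((z : ℕ → Additive (Over.mk σ ⟶ A)) n).toMul ≫ f) := rfl

/-- A finite homomorphism kills finitely many geometric points. -/
theorem finite_ker_pts (f : A ⟶ B) [IsFinite f.left] : {a : Over.mk σ ⟶ A | a ≫ f = 1}.Finite := by
  let ξ : Spec (CommRingCat.of Ω) ⟶ B.left := (1 : Over.mk σ ⟶ B).left
  let p := pullback.snd f.left ξ
  haveI : Finite ↥(pullback f.left ξ) := by
    rw [← Set.finite_univ_iff, show (Set.univ : Set ↥(pullback f.left ξ)) = p ⁻¹' {IsLocalRing.closedPoint Ω} from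
      (Set.eq_univ_of_forall fun x => Subsingleton.elim (α := ↥(Spec (CommRingCat.of Ω))) _ _).symm]
    exact IsFinite.finite_preimage_singleton p _
  let S := {a : Over.mk σ ⟶ A | a ≫ f = 1}
  let Φ : S → ↥(pullback f.left ξ) := fun a =>
    (pullback.lift a.1.left (𝟙 _) (by rw [Category.id_comp, ← Over.comp_left, a.2])) (IsLocalRing.closedPoint Ω)
  refine Set.finite_coe_iff.1 (Finite.of_injective Φ fun a b h => Subtype.ext (Over.OverMorphism.ext ?_))
  have h2 := ext_of_apply_closedPoint_eq p (pullback.lift_snd _ _ _) (pullback.lift_snd _ _ _) h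
  have h3 := congrArg (fun s => s ≫ pullback.fst f.left ξ) h2
  simpa using h3

/-- The Tate map of a finite homomorphism is injective. -/
theorem injective_tateMap_of_isFinite (l : ℕ) [hl : Fact l.Prime] (f : A ⟶ B) [IsMonHom f] [IsFinite f.left] :
    Function.Injective (tateMapₗ (l := l) (T := Over.mk σ) f) := by
  refine (injective_iff_map_eq_zero _).2 fun z hz => ?_
  have hmem : ∀ n, ((z : ℕ → Additive (Over.mk σ ⟶ A)) n).toMul ∈ {a : Over.mk σ ⟶ A | a ≫ f = 1} := fun n =>
    congrArg (fun w : TateMod B l (Over.mk σ) => ((w : ℕ → Additive (Over.mk σ ⟶ B)) n).toMul) hz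
  haveI := (finite_ker_pts σ f).to_subtype
  obtain ⟨⟨y, hy⟩, hinf⟩ := Finite.exists_infinite_fiber
    (fun n : ℕ => (⟨_, hmem n⟩ : {a : Over.mk σ ⟶ A | a ≫ f = 1}))
  have hsh : ∀ i j : ℕ, (l ^ i) • (z : ℕ → Additive (Over.mk σ ⟶ A)) (i + j) = (z : ℕ → _) j := by
    intro i
    induction i with
    | zero => intro j; simp
    | succ i ih => intro j; rw [pow_succ, show i + 1 + j = (i + j) + 1 by omega, mul_nsmul', z.compat, ih]
  have hinf' : {n : ℕ | ((z : ℕ → Additive (Over.mk σ ⟶ A)) n).toMul = y}.Infinite := by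
    refine (Set.infinite_coe_iff.1 hinf).mono fun n hn => ?_
    exact congrArg Subtype.val hn
  refine TateMod.ext fun m => ?_
  obtain ⟨i, hi, hmi⟩ := hinf'.exists_gt m
  obtain ⟨j, hj, hij⟩ := hinf'.exists_gt i
  have e1 : (z : ℕ → Additive (Over.mk σ ⟶ A)) i = (z : ℕ → _) j :=
    Additive.toMul.injective (hi.trans hj.symm)
  have e2 : (z : ℕ → Additive (Over.mk σ ⟶ A)) i = 0 := by
    obtain ⟨d, rfl⟩ : ∃ d, j = i + d := ⟨j - i, by omega⟩
    have h1 := hsh d i
    rw [add_comm d i, ← e1] at h1
    have h2 : (l ^ d) • (z : ℕ → Additive (Over.mk σ ⟶ A)) i = (z : ℕ → _) i := h1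
    have h3 : ∀ e : ℕ, (l ^ (e * d)) • (z : ℕ → Additive (Over.mk σ ⟶ A)) i = (z : ℕ → _) i := by
      intro e
      induction e with
      | zero => simp
      | succ e ih => rw [Nat.succ_mul, pow_add, mul_nsmul', h2, ih]
    rw [← h3 i, show l ^ (i * d) = l ^ i * l ^ (i * d - i) by
      rw [← pow_add]; congr 1; have : i ≤ i * d := Nat.le_mul_of_pos_right _ (by omega); omega,
      mul_nsmul, z.torsion, nsmul_zero]
  obtain ⟨d, rfl⟩ : ∃ d, i = d + m := ⟨i - m, by omega⟩
  rw [← hsh d m, e2, nsmul_zero]
  rfl

/-- The Tate map of a closed immersion has torsion free cokernel. -/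
theorem free_coker_tateMap [IsProper B.hom] [GeometricallyIntegral B.hom] (l : ℕ) [hl : Fact l.Prime]
    (hlK : (l : K) ≠ 0) (f : A ⟶ B) [IsMonHom f] [Mono f] :
    Module.Free ℤ_[l] (TateMod B l (Over.mk σ) ⧸ LinearMap.range (tateMapₗ (l := l) (T := Over.mk σ) f)) := by
  haveI := module_finite B σ l hlK
  have key : ∀ x : TateMod B l (Over.mk σ), l • x ∈ LinearMap.range (tateMapₗ (l := l) (T := Over.mk σ) f) →
      x ∈ LinearMap.range (tateMapₗ (l := l) (T := Over.mk σ) f) := by
    rintro x ⟨w, hw⟩
    have h1 : Additive.ofMul (((w : ℕ → Additive (Over.mk σ ⟶ A)) 1).toMul ≫ f) = 0 := by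
      rw [← tateMap_apply_component, hw, component_nsmul]
      simpa using x.torsion 1
    have hw1 : (w : ℕ → Additive (Over.mk σ ⟶ A)) 1 = 0 := by
      refine Additive.toMul.injective ((cancel_mono f).1 ?_)
      rw [toMul_zero, MonObj.one_comp]
      exact congrArg Additive.toMul h1
    have hsh : ∀ i, l • (w : ℕ → Additive (Over.mk σ ⟶ A)) (i + 1) = (w : ℕ → _) i := w.compat
    let w' : TateMod A l (Over.mk σ) := ⟨fun i => (w : ℕ → Additive (Over.mk σ ⟶ A)) (i + 1),
      fun i => by
        induction i with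
        | zero => rw [pow_zero, one_nsmul]; exact hw1
        | succ i ih => rw [pow_succ, mul_nsmul', w.compat]; exact ih,
      fun i => w.compat (i + 1)⟩
    refine ⟨w', sub_eq_zero.1 (eq_zero_of_smul_eq_zero B σ l _ ?_)⟩
    rw [smul_sub, ← map_nsmul, ← hw, sub_eq_zero]
    congr 1
    exact TateMod.ext fun i => (map_nsmul (TateMod.component A l (Over.mk σ) i) l w').trans (hsh i)
  have hpow : ∀ (m : ℕ) (x : TateMod B l (Over.mk σ)), (l ^ m) • x ∈
      LinearMap.range (tateMapₗ (l := l) (T := Over.mk σ) f) →
      x ∈ LinearMap.range (tateMapₗ (l := l) (T := Over.mk σ) f) := by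
    intro m
    induction m with
    | zero => intro x hx; simpa using hx
    | succ m ih =>
      intro x hx
      refine ih x (key _ ?_)
      rw [← mul_nsmul', ← pow_succ']
      exact hx
  haveI : Module.IsTorsionFree ℤ_[l] (TateMod B l (Over.mk σ) ⧸
      LinearMap.range (tateMapₗ (l := l) (T := Over.mk σ) f)) := by
    refine .mk fun a ha x y hxy => ?_
    obtain ⟨x, rfl⟩ := Submodule.Quotient.mk_surjective _ x
    obtain ⟨y, rfl⟩ := Submodule.Quotient.mk_surjective _ y
    dsimp only at hxy
    rw [← Submodule.Quotient.mk_smul, ← Submodule.Quotient.mk_smul, Submodule.Quotient.eq, ← smul_sub,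
      PadicInt.unitCoeff_spec ha.ne_zero, mul_smul] at hxy
    replace hxy := Submodule.smul_mem _ (((PadicInt.unitCoeff ha.ne_zero)⁻¹ : ℤ_[l]ˣ) : ℤ_[l]) hxy
    rw [← mul_smul, Units.inv_mul, one_smul, ← Nat.cast_pow, natCast_smul_tate] at hxy
    exact (Submodule.Quotient.eq _).2 (hpow _ _ hxy)
  exact Module.free_of_finite_type_torsion_free'

/-- If a closed connected subgroup is killed, the Tate map is not injective. -/
theorem isFinite_of_injective_tateMap {K : Type u} [Field K] [IsAlgClosed K]
    {A B : Over (Spec (CommRingCat.of K))} [GrpObj A] [IsCommMonObj A] [IsProper A.hom]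
    [GeometricallyIntegral A.hom] [GrpObj B] [IsCommMonObj B] [IsProper B.hom]
    (σ : Spec (CommRingCat.of Ω) ⟶ Spec (CommRingCat.of K)) (l : ℕ) [hl : Fact l.Prime] (hlK : (l : K) ≠ 0)
    (f : A ⟶ B) [IsMonHom f] (h : Function.Injective (tateMapₗ (l := l) (T := Over.mk σ) f)) :
    IsFinite f.left := by
  refine isFinite_of_forall_subgroup f fun C _ _ _ i _ _ hif => ?_
  haveI : IsCommMonObj C := GrothLib.Cube.isCommMonObj_abVar (A := C)
  haveI : Mono i := by
    haveI : Mono ((Over.forget _).map i) := inferInstanceAs (Mono i.left)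
    exact (Over.forget _).mono_of_mono_map inferInstance
  haveI : Subsingleton (TateMod C l (Over.mk σ)) := by
    refine subsingleton_of_forall_eq 0 fun z => ?_
    have h1 : tateMapₗ (l := l) f (tateMapₗ (l := l) (T := Over.mk σ) i z) = 0 := TateMod.ext fun n => by
      rw [tateMap_apply_component, tateMap_apply_component, toMul_ofMul, Category.assoc, hif, MonObj.comp_one]
      rfl
    rw [← map_zero (tateMapₗ (l := l) (T := Over.mk σ) f)] at h1
    have h2 := h h1
    refine TateMod.ext fun n => Additive.toMul.injective ((cancel_mono i).1 ?_)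
    have h3 := congrArg (fun w : TateMod A l (Over.mk σ) => ((w : ℕ → Additive (Over.mk σ ⟶ A)) n).toMul) h2
    exact h3.trans (MonObj.one_comp i).symm
  obtain ⟨g, hg⟩ := exists_dim C
  have h0 := finrank_eq C σ l hlK hg
  rw [Module.finrank_zero_of_subsingleton] at h0
  haveI : IsIntegral C.left := GeometricallyIntegral.isIntegral_of_subsingleton C.hom
  have hdim : topologicalKrullDim (Set.univ : Set C.left) = 0 := by
    rw [IsHomeomorph.topologicalKrullDim_eq _ (Homeomorph.Set.univ C.left).isHomeomorph, hg, show g = 0 by omega]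
    rfl
  haveI : IsLocallyNoetherian C.left := LocallyOfFiniteType.isLocallyNoetherian C.hom
  exact Set.subsingleton_univ_iff.1 (Dim.subsingleton_of_dim_eq_zero isClosed_univ
    (IrreducibleSpace.isIrreducible_univ _) hdim.le)

end Tate

end GrothLib.AbTors
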