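import Groth.Agent.Lib.AbTors.Degree
import Groth.Agent.Lib.AbMul.Etale
import Groth.Agent.Lib.FEt21.Basic
import Groth.Prelude.Def_AbDual

/-!
# The number of torsion points
-/

universe u

open CategoryTheory CategoryTheory.Limits MonoidalCategory CartesianMonoidalCategory AlgebraicGeometry
open scoped MonObj

set_option backward.isDefEq.respectTransparency false

noncomputable section

namespace GrothLib.AbTors

variable {K : Type u} [Field K] (A : Over (Spec (CommRingCat.of K))) [GrpObj A] [IsCommMonObj A] [IsProper A.hom]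
  [GeometricallyIntegral A.hom]

theorem pow_comp_eq {T : Over (Spec (CommRingCat.of K))} (a : T ⟶ A) (n : ℕ) : a ≫ (𝟙 A : A ⟶ A) ^ n = a ^ n := by
  rw [MonObj.comp_pow, Category.comp_id]

/-- `A[n](Ω)` has `n^(2g)` elements for `n` invertible in the field and `Ω` algebraically closed. -/
theorem card_torsPts {g : ℕ} (hg : topologicalKrullDim A.left = (g : WithBot ℕ∞)) {n : ℕ} (hn : (n : K) ≠ 0)
    {Ω : Type u} [Field Ω] [IsAlgClosed Ω] (σ : Spec (CommRingCat.of Ω) ⟶ Spec (CommRingCat.of K)) :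
    Nat.card (AbDual.torsPts A n (Over.mk σ)) = n ^ (2 * g) := by
  obtain ⟨hf, he, -⟩ := AbMul.isFinite_etale_surjective_pow A (n : ℤ) (by exact_mod_cast hn)
  rw [zpow_natCast] at hf he
  let Y : FEt.Cat A.left :=
    MorphismProperty.Over.mk ⊤ ((𝟙 A : A ⟶ A) ^ n).left (GrothLib.FEt21.prop_of _)
  let ξ : Spec (CommRingCat.of Ω) ⟶ A.left := (1 : Over.mk σ ⟶ A).left
  let e : AbDual.torsPts A n (Over.mk σ) ≃ FEt.fiberObj ξ Y :=
    { toFun := fun a => ⟨a.1.left, by
        show a.1.left ≫ ((𝟙 A : A ⟶ A) ^ n).left = _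
        rw [← Over.comp_left, pow_comp_eq, (AbDual.mem_torsPts A a.1).1 a.2]⟩
      invFun := fun s => ⟨Over.homMk s.1 (by
          have h : s.1 ≫ ((𝟙 A : A ⟶ A) ^ n).left = ξ := s.2
          rw [← Over.w ((𝟙 A : A ⟶ A) ^ n), ← Category.assoc, h]
          exact Over.w (1 : Over.mk σ ⟶ A)), by
        rw [AbDual.mem_torsPts, ← pow_comp_eq]
        ext1
        exact s.2⟩
      left_inv := fun a => rfl
      right_inv := fun s => rfl }
  have hn0 : n ≠ 0 := by rintro rfl; exact hn (by simp)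
  rw [Nat.card_congr e, GrothLib.FEt21.card_fiber]
  exact finrank_pow A hg hn0 _

end GrothLib.AbTors
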