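import Groth.Agent.Lib.Cube.MulFinite
import Groth.Agent.Lib.Cube.AffineComplement
import Groth.Agent.Lib.Snapper.PushTop
import Groth.Agent.Lib.Snapper.Positive
import Groth.Agent.Lib.Kodaira.Bound
import Groth.Agent.Lib.CurveMult.GenEtale

/-!
# The degree of multiplication by `n` on an abelian variety

For a symmetric ample `L` the pullback along `[n]` is `L^{n²}`, and top self-intersection numbers get
multiplied by the degree under a pullback; so the degree of `[n]` is `n^{2g}`.
-/

universe u

open CategoryTheory CategoryTheory.Limits MonoidalCategory CartesianMonoidalCategory AlgebraicGeometry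
open scoped MonObj

set_option backward.isDefEq.respectTransparency false

noncomputable section

namespace GrothLib.AbTors

open GrothLib.Snapper GrothLib.Cube

/-- Twisted Euler characteristics only depend on the isomorphism classes of the twisting modules. -/
theorem phi_congr {X : Scheme.{u}} (k : Type u) [Field k] [X.Over (Spec (CommRingCat.of k))] {r : ℕ}
    {L L' : Fin r → X.Modules} (hL : ∀ i, PicF.IsInvertible (L i)) (e : ∀ i, Nonempty (L i ≅ L' i))
    (F : X.Modules) : phi k r L F = phi k r L' F := by
  funext n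
  have key : ∀ (r : ℕ) (L L' : Fin r → X.Modules), (∀ i, PicF.IsInvertible (L i)) → (∀ i, Nonempty (L i ≅ L' i)) →
      ∀ n : Fin r → ℕ, ∃ x : Pic X, HasCls (invPows r L n) x ∧ HasCls (invPows r L' n) x := by
    intro r
    induction r with
    | zero => exact fun L L' _ _ n => ⟨1, hasCls_structureModule X, hasCls_structureModule X⟩
    | succ r ih =>
      intro L L' hL e n
      obtain ⟨x, hx, hx'⟩ := ih (fun i => L i.castSucc) (fun i => L' i.castSucc) (fun i => hL _) (fun i => e _)
        (fun i => n i.castSucc)
      have h := hasCls_clsMod (hL (Fin.last r))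
      obtain ⟨ei⟩ := e (Fin.last r)
      have hL' : PicF.IsInvertible (L' (Fin.last r)) := ParaPair.isInvertible_of_iso ei.symm (hL _)
      have he := h.eq (hasCls_clsMod hL') ⟨ei⟩
      refine ⟨x * clsMod (hL (Fin.last r)) ^ n (Fin.last r), hx.tensor (h.tensorPow _), ?_⟩
      rw [he]
      exact hx'.tensor ((hasCls_clsMod hL').tensorPow _)
  obtain ⟨x, hx, hx'⟩ := key r L L' hL e n
  obtain ⟨i⟩ := hx.iso hx' rfl
  exact congrArg Int.cast (Euler.euler_of_iso k (((DCoh.tensorBi (X := X)).obj F).mapIso i))

variable {K : Type u} [Field K] (A : Over (Spec (CommRingCat.of K))) [GrpObj A] [IsProper A.hom]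
  [GeometricallyIntegral A.hom]

/-- `[n]` has degree `n^(2g)`. -/
theorem finrank_pow {g : ℕ} (hg : topologicalKrullDim A.left = (g : WithBot ℕ∞)) {n : ℕ} (hn : n ≠ 0) (y : A.left) :
    ((𝟙 A : A ⟶ A) ^ n).left.finrank y = n ^ (2 * g) := by
  haveI : IsIntegral A.left := GeometricallyIntegral.isIntegral_of_subsingleton A.hom
  letI : A.left.Over (Spec (CommRingCat.of K)) := ⟨A.hom⟩
  haveI : IsProper (A.left ↘ Spec (CommRingCat.of K)) := ‹IsProper A.hom›
  haveI : IsLocallyNoetherian A.left := LocallyOfFiniteType.isLocallyNoetherian A.hom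
  obtain ⟨L, hA, ⟨esym⟩⟩ := exists_symmetric_isAmple A
  have hO : Coh.IsCoh (Coh.structureModule A.left) := Euler.isCoh_of_isInvertible Euler.isInvertible_structure
  have hsupp : CohB1.support (Coh.structureModule A.left) = Set.univ :=
    Set.eq_univ_of_forall fun x => Kodaira.mem_support_of_isInvertible Euler.isInvertible_structure x
  have hu : topologicalKrullDim (Set.univ : Set A.left) = (g : WithBot ℕ∞) :=
    (IsHomeomorph.topologicalKrullDim_eq _ (Homeomorph.Set.univ A.left).isHomeomorph).trans hg
  have hdim : DimLT (CohB1.support (Coh.structureModule A.left)) (g + 1) := by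
    rw [hsupp]; exact dimLT_of_dim_le hu.le
  set M := mixed g (phi K g (fun _ => L) (ptMod (genericPoint A.left)))
  -- both computations of the top self-intersection of the pullback
  have key : ∀ m : ℕ, m ≠ 0 → ((m : ℚ) ^ 2) ^ g * mixed g (phi K g (fun _ => L) (Coh.structureModule A.left)) =
      (((𝟙 A : A ⟶ A) ^ m).left.residueDegree (genericPoint A.left) : ℚ) * M := by
    intro m hm
    haveI := surjective_pow A hm
    let f := ((𝟙 A : A ⟶ A) ^ m).left
    have hf : f (genericPoint A.left) = genericPoint A.left := by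
      obtain ⟨z, hz⟩ := f.surjective (genericPoint A.left)
      have h1 : f (genericPoint A.left) ⤳ genericPoint A.left :=
        hz ▸ ((genericPoint_spec A.left).specializes trivial).map f.continuous
      exact (h1.antisymm ((genericPoint_spec A.left).specializes trivial)).eq
    have hpb := mixed_eq_zero (phi_pullback_sub_mem (k := K) (g := f) (Over.w _) hg (r := g)
      (L := fun _ => L) (fun _ => hA.1))
    rw [map_sub, sub_eq_zero, map_nsmul, hf, nsmul_eq_mul] at hpb
    have hLm := hasCls_clsMod hA.1
    have hsym := hLm.eq (hLm.pullback _) ⟨esym⟩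
    have e2 : Nonempty ((Scheme.Modules.pullback f).obj L ≅ CohB1.tensorPow L (m ^ 2)) :=
      (hLm.pullback f).iso (hLm.tensorPow (m ^ 2)) (pull_pow_of_symmetric hsym.symm m)
    have hphi := phi_congr (X := A.left) K (r := g) (fun _ => (hLm.pullback f).choose) (fun _ => e2)
      (Coh.structureModule A.left)
    rw [hphi, mixed_const_pow K hA.1 hO hdim (m ^ 2)] at hpb
    push_cast at hpb
    exact hpb
  have hpos : 0 < mixed g (phi K g (fun _ => L) (Coh.structureModule A.left)) :=
    mixed_pos K g A.left L hA _ hO hdim ⟨genericPoint A.left, hsupp ▸ trivial, isTop_genericPoint hg⟩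
  have hdeg : ∀ m : ℕ, m ≠ 0 → ∀ y : A.left,
      ((𝟙 A : A ⟶ A) ^ m).left.finrank y = ((𝟙 A : A ⟶ A) ^ m).left.residueDegree (genericPoint A.left) := by
    intro m hm
    haveI := isFinite_pow A hm
    haveI := surjective_pow A hm
    haveI := flat_pow A hm
    refine (CurveMult.generic_finite_flat ((𝟙 A : A ⟶ A) ^ m).left ?_).1
    obtain ⟨z, hz⟩ := (((𝟙 A : A ⟶ A) ^ m).left).surjective (genericPoint A.left)
    have h1 : ((𝟙 A : A ⟶ A) ^ m).left (genericPoint A.left) ⤳ genericPoint A.left :=
      hz ▸ ((genericPoint_spec A.left).specializes trivial).map (((𝟙 A : A ⟶ A) ^ m).left).continuous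
    exact (h1.antisymm ((genericPoint_spec A.left).specializes trivial)).eq
  have h1 := key 1 one_ne_zero
  have hone : ((𝟙 A : A ⟶ A) ^ 1).left.residueDegree (genericPoint A.left) = 1 := by
    rw [← hdeg 1 one_ne_zero (genericPoint A.left), pow_one, Over.id_left]
    exact (Scheme.Hom.isIso_iff_finrank_eq (𝟙 A.left)).1 inferInstance |>.symm ▸ rfl
  rw [hone, Nat.cast_one, one_pow, one_pow, one_mul, one_mul] at h1
  have hn' := key n hn
  rw [← h1] at hn'
  have := mul_right_cancel₀ hpos.ne' hn'
  rw [hdeg n hn y]
  rw [← pow_mul] at this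
  exact_mod_cast this.symm

end GrothLib.AbTors
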