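import Groth.Agent.Lib.AbTors.Count
import Groth.Agent.Lib.Cube.AmpleCrit
import Groth.Agent.Lib.Cube.Nondegenerate
import Groth.Agent.Lib.Dim.QuasiFinite
import Groth.Agent.Lib.SquareOpen.Chain

/-!
# Torsion points of prime power order are dense
-/

universe u

open CategoryTheory CategoryTheory.Limits MonoidalCategory CartesianMonoidalCategory AlgebraicGeometry
open scoped MonObj

set_option backward.isDefEq.respectTransparency false

noncomputable section

namespace GrothLib.AbTors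

open GrothLib.Cube

variable {K : Type u} [Field K] [IsAlgClosed K] (A : Over (Spec (CommRingCat.of K))) [GrpObj A] [IsCommMonObj A]
  [IsProper A.hom] [GeometricallyIntegral A.hom]

/-- The torsion points of `l`-power order. -/
def primePowTors (l : ℕ) : Set (𝟙_ (Over (Spec (CommRingCat.of K))) ⟶ A) := {a | ∃ n : ℕ, a ^ (l ^ n) = 1}

theorem dense_primePowTors {l : ℕ} (hl1 : 1 < l) (hl : (l : K) ≠ 0) :
    Dense ((fun a => ptOf a) '' primePowTors A l : Set A.left) := by
  haveI : IsIntegral A.left := GeometricallyIntegral.isIntegral_of_subsingleton A.hom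
  haveI : IsLocallyNoetherian A.left := LocallyOfFiniteType.isLocallyNoetherian A.hom
  haveI : CompactSpace A.left := QuasiCompact.compactSpace_of_compactSpace A.hom
  haveI : IsNoetherian A.left := ⟨⟩
  set Z : Set A.left := closure ((fun a => ptOf a) '' primePowTors A l)
  have hZc : IsClosed Z := isClosed_closure
  rw [dense_iff_closure_eq]
  by_contra hne
  -- `Z` is a subgroup
  have hH1 : (1 : 𝟙_ (Over (Spec (CommRingCat.of K))) ⟶ A) ∈ primePowTors A l := ⟨0, one_pow _⟩
  have hHmul : ∀ a b, a ∈ primePowTors A l → b ∈ primePowTors A l → a * b ∈ primePowTors A l := by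
    rintro a b ⟨m, hm⟩ ⟨n, hn⟩
    refine ⟨m + n, ?_⟩
    rw [mul_pow, pow_add, pow_mul, hm, one_pow, _root_.one_mul, mul_comm, pow_mul, hn, one_pow]
  have hmem : ∀ a, a ∈ primePowTors A l → ptOf a ∈ Z := fun a ha => subset_closure ⟨a, ha, rfl⟩
  have key : ∀ f : A ⟶ A, (∀ a, a ∈ primePowTors A l → ptOf (a ≫ f) ∈ Z) → ∀ b, ptOf b ∈ Z → ptOf (b ≫ f) ∈ Z := by
    intro f hf b hb
    rw [← apply_ptOf]
    refine closure_minimal (t := f.left ⁻¹' Z) ?_ (hZc.preimage f.left.continuous) hb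
    rintro _ ⟨a, ha, rfl⟩
    show f.left (ptOf a) ∈ Z
    rw [apply_ptOf]
    exact hf a ha
  let Zsub : Subgroup (𝟙_ (Over (Spec (CommRingCat.of K))) ⟶ A) :=
    { carrier := {a | ptOf a ∈ Z}
      one_mem' := hmem _ hH1
      mul_mem' := fun {a b} ha hb => by
        show ptOf (a * b) ∈ Z
        rw [← comp_transl_point]
        refine key _ (fun h hh => ?_) a ha
        rw [comp_transl_point, mul_comm, ← comp_transl_point]
        refine key _ (fun h' hh' => ?_) b hb
        rw [comp_transl_point]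
        exact hmem _ (hHmul _ _ hh' hh)
      inv_mem' := fun {a} ha => by
        show ptOf a⁻¹ ∈ Z
        rw [show a⁻¹ = a ≫ (𝟙 A : A ⟶ A)⁻¹ by rw [GrpObj.comp_inv, Category.comp_id]]
        refine key _ (fun h hh => ?_) a ha
        rw [GrpObj.comp_inv, Category.comp_id]
        obtain ⟨n, hn⟩ := hh
        exact hmem _ ⟨n, by rw [inv_pow, hn, inv_one]⟩ }
  haveI : Zsub.Normal := ⟨fun n hn g => by rwa [mul_comm g n, mul_inv_cancel_right]⟩
  obtain ⟨g, hA, -⟩ := GrothLib.Dim.dim_closure_range_eq (𝟙 A.left) A.hom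
  -- each component carries few torsion points
  have bound : ∀ V : Set A.left, IsClosed V → IsIrreducible V → V ⊆ Z → ∀ n : ℕ,
      {a : 𝟙_ (Over (Spec (CommRingCat.of K))) ⟶ A | a ^ (l ^ n) = 1 ∧ ptOf a ∈ V}.Finite ∧
        {a : 𝟙_ (Over (Spec (CommRingCat.of K))) ⟶ A | a ^ (l ^ n) = 1 ∧ ptOf a ∈ V}.ncard ≤ l ^ (2 * (g - 1) * n) ∧
        1 ≤ g := by
    intro V hVc hVi hVZ n
    obtain ⟨q, hqV, hqc⟩ := hVc.exists_closed_singleton hVi.1
    obtain ⟨v, hv, -⟩ := exists_point_factor q hqc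
    have hvV : ptOf v ∈ V := by rw [show ptOf v = q from hv]; exact hqV
    let τ := (transl v).left
    haveI : IsIso τ := ⟨(transl v⁻¹).left, by
      rw [← Over.comp_left, transl_comp, mul_inv_cancel, transl_one, Over.id_left], by
      rw [← Over.comp_left, transl_comp, inv_mul_cancel, transl_one, Over.id_left]⟩
    let V' : Set A.left := τ ⁻¹' V
    have hV'c : IsClosed V' := hVc.preimage τ.continuous
    have hV'i : IsIrreducible V' := by
      rw [show V' = (TopCat.homeoOfIso (Scheme.forgetToTop.mapIso (asIso τ))).symm '' V from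
        (congrFun (TopCat.homeoOfIso (Scheme.forgetToTop.mapIso (asIso τ))).image_symm _).symm]
      exact hVi.image _ (Homeomorph.continuous _).continuousOn
    have hτ : ∀ a, τ (ptOf a) = ptOf (a * v) := fun a => by
      show (transl v).left (ptOf a) = _
      rw [apply_ptOf, comp_transl_point]
    obtain ⟨B, _, i, hi, hic, hBi, hVB, hker⟩ :=
      Rigidity.exists_subgroup_of_irreducible A (QuotientGroup.mk' Zsub) V' hV'c hV'i (by
        rintro _ ⟨s, rfl⟩
        rw [Subsingleton.elim (α := ↥(Spec (CommRingCat.of K))) s (IsLocalRing.closedPoint K)]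
        show τ (ptOf η[A]) ∈ V
        rw [hτ, MonObj.one_eq_one, _root_.one_mul]
        exact hvV)
      (fun a ha => (QuotientGroup.eq_one_iff a).2 (by
        have h1 : τ (ptOf a) ∈ V := ha ⟨_, rfl⟩
        rw [hτ] at h1
        have h2 : a * v ∈ Zsub := hVZ h1
        exact (Zsub.mul_mem_cancel_right (show v ∈ Zsub from hVZ hvV)).1 h2))
    haveI : IsProper B.hom := by rw [← Over.w i]; infer_instance
    haveI := geometricallyIntegral_of_isAlgClosed B
    haveI := isCommMonObj_abVar (A := B)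
    have hBne : Set.range i.left ≠ Set.univ := fun hu => by
      refine hne (Set.eq_univ_of_univ_subset ?_)
      rw [← hu]
      rintro _ ⟨z, rfl⟩
      refine closure_minimal (t := i.left ⁻¹' Z) ?_ (hZc.preimage i.left.continuous)
        ((dense_closedPoints B).closure_eq.ge (Set.mem_univ z))
      intro w hw
      obtain ⟨b, hb, -⟩ := exists_point_factor w hw
      show i.left w ∈ Z
      rw [← show ptOf b = w from hb, apply_ptOf]
      exact (QuotientGroup.eq_one_iff _).1 (hker b)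
    obtain ⟨g', hB, -⟩ := GrothLib.Dim.dim_closure_range_eq (𝟙 B.left) B.hom
    have hlt : g' < g := by
      by_contra hle
      refine hBne (GrothLib.Dim.eq_univ_of_dim_le i.left.isClosedEmbedding.isClosed_range ?_ (m := g') ?_)
      · rw [hA, ← IsHomeomorph.topologicalKrullDim_eq _ i.left.isClosedEmbedding.isEmbedding.toHomeomorph.isHomeomorph,
          hB]
        exact_mod_cast not_lt.1 hle
      · rw [← IsHomeomorph.topologicalKrullDim_eq _ i.left.isClosedEmbedding.isEmbedding.toHomeomorph.isHomeomorph, hB]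
    let T₁ : Over (Spec (CommRingCat.of K)) := 𝟙_ _
    have hcard : Nat.card (AbDual.torsPts B (l ^ n) T₁) = (l ^ n) ^ (2 * g') :=
      card_torsPts B hB (by rw [Nat.cast_pow]; exact pow_ne_zero _ hl) (Ω := K) (𝟙 _)
    haveI : Finite (AbDual.torsPts B (l ^ n) T₁) := Nat.finite_of_card_ne_zero (by rw [hcard]; positivity)
    set S := {a : 𝟙_ (Over (Spec (CommRingCat.of K))) ⟶ A | a ^ (l ^ n) = 1 ∧ ptOf a ∈ V}
    by_cases hS : S = ∅
    · rw [hS]
      exact ⟨Set.finite_empty, by simp, by omega⟩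
    obtain ⟨a₀, ha₀⟩ := Set.nonempty_iff_ne_empty.2 hS
    have hinj : ∀ b b' : 𝟙_ (Over (Spec (CommRingCat.of K))) ⟶ B, b ≫ i = b' ≫ i → b = b' := fun b b' h => by
      refine eq_of_ptOf_eq (i.left.isClosedEmbedding.injective ?_)
      rw [apply_ptOf, apply_ptOf, h]
    have lift : ∀ a ∈ S, ∃ b : 𝟙_ (Over (Spec (CommRingCat.of K))) ⟶ B, b ≫ i = a * v⁻¹ := by
      intro a ha
      refine exists_point_over i _ (isClosed_ptOf _) (hVB ?_)
      show τ (ptOf (a * v⁻¹)) ∈ V
      rw [hτ, inv_mul_cancel_right]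
      exact ha.2
    choose b hb using lift
    have hd : ∀ a (ha : a ∈ S), (b a ha * (b a₀ ha₀)⁻¹) ≫ i = a * a₀⁻¹ := fun a ha => by
      rw [MonObj.mul_comp, GrpObj.inv_comp, hb, hb, ← div_eq_mul_inv, ← div_eq_mul_inv, ← div_eq_mul_inv,
        div_div_div_cancel_right]
      exact div_eq_mul_inv _ _
    let Φ : S → AbDual.torsPts B (l ^ n) T₁ := fun a => ⟨b a.1 a.2 * (b a₀ ha₀)⁻¹, by
      rw [AbDual.mem_torsPts]
      refine hinj _ _ ?_
      rw [MonObj.pow_comp, hd, mul_pow, inv_pow, a.2.1, ha₀.1, inv_one, _root_.one_mul, MonObj.one_comp]⟩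
    have hΦ : Function.Injective Φ := fun a a' h => by
      refine Subtype.ext (mul_right_cancel (b := a₀⁻¹) ?_)
      rw [← hd a.1 a.2, ← hd a'.1 a'.2, show b a.1 a.2 * (b a₀ ha₀)⁻¹ = b a'.1 a'.2 * (b a₀ ha₀)⁻¹ from
        congrArg Subtype.val h]
    haveI : Finite S := Finite.of_injective Φ hΦ
    refine ⟨Set.toFinite S, ?_, by omega⟩
    rw [← Nat.card_coe_set_eq]
    refine (Nat.card_le_card_of_injective Φ hΦ).trans ?_
    rw [hcard, ← pow_mul]
    refine Nat.pow_le_pow_right (by omega) ?_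
    rw [mul_comm n]
    exact Nat.mul_le_mul_right _ (Nat.mul_le_mul_left _ (by omega))
  obtain ⟨F, hF, hFc, hFi, hFu⟩ := TopologicalSpace.NoetherianSpace.exists_finite_set_isClosed_irreducible hZc
  have htotal : ∀ n : ℕ, l ^ (2 * g * n) ≤ hF.toFinset.card * l ^ (2 * (g - 1) * n) := by
    intro n
    have hcard : Nat.card (AbDual.torsPts A (l ^ n) (𝟙_ (Over (Spec (CommRingCat.of K))))) = (l ^ n) ^ (2 * g) :=
      card_torsPts A hA (by rw [Nat.cast_pow]; exact pow_ne_zero _ hl) (Ω := K) (𝟙 _)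
    rw [← pow_mul, mul_comm] at hcard
    rw [← hcard]
    classical
    let S : Set A.left → Set (𝟙_ (Over (Spec (CommRingCat.of K))) ⟶ A) := fun V => {a | a ^ (l ^ n) = 1 ∧ ptOf a ∈ V}
    have hsub : SetLike.coe (AbDual.torsPts A (l ^ n) (𝟙_ (Over (Spec (CommRingCat.of K))))) ⊆
        ⋃ V ∈ hF.toFinset, S V := by
      intro a ha
      have haZ : ptOf a ∈ Z := hmem a ⟨n, ha⟩
      rw [hFu] at haZ
      obtain ⟨V, hV, haV⟩ := haZ
      exact Set.mem_biUnion (hF.mem_toFinset.2 hV) ⟨ha, haV⟩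
    have hfin : ∀ V ∈ hF.toFinset, (S V).Finite ∧ (S V).ncard ≤ l ^ (2 * (g - 1) * n) := fun V hV =>
      have hV' := hF.mem_toFinset.1 hV
      have h := bound V (hFc V hV') (hFi V hV') (hFu ▸ Set.subset_sUnion_of_mem hV') n
      ⟨h.1, h.2.1⟩
    refine (Nat.card_coe_set_eq (SetLike.coe (AbDual.torsPts A (l ^ n) (𝟙_ (Over (Spec (CommRingCat.of K))))))).trans_le ?_
    refine (Set.ncard_le_ncard hsub (hF.toFinset.finite_toSet.biUnion fun V hV => (hfin V hV).1)).trans ?_
    refine (Finset.set_ncard_biUnion_le _ _).trans ?_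
    refine (Finset.sum_le_card_nsmul _ _ _ fun V hV => (hfin V hV).2).trans ?_
    rw [smul_eq_mul]
  have hg1 : 1 ≤ g := by
    obtain ⟨V, hV⟩ : F.Nonempty := by
      obtain ⟨V, hV, -⟩ := (hFu ▸ hmem _ hH1 : ptOf (1 : 𝟙_ (Over (Spec (CommRingCat.of K))) ⟶ A) ∈ ⋃₀ F)
      exact ⟨V, hV⟩
    exact (bound V (hFc V hV) (hFi V hV) (hFu ▸ Set.subset_sUnion_of_mem hV) 0).2.2
  obtain ⟨n, hn⟩ := pow_unbounded_of_one_lt hF.toFinset.card hl1
  have h := htotal n
  have e : 2 * g * n = 2 * n + 2 * (g - 1) * n := by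
    rw [← add_mul]; congr 1; omega
  rw [e, pow_add] at h
  have h2 := Nat.le_of_mul_le_mul_right h (by positivity)
  have : l ^ n ≤ l ^ (2 * n) := Nat.pow_le_pow_right (by omega) (by omega)
  omega

end GrothLib.AbTors
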