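import Groth.Agent.Lib.AbTors.Kill
import Groth.Agent.Lib.RedSmooth.Basic
import Groth.Agent.Lib.Rigidity.Hom
import Mathlib.AlgebraicGeometry.Sites.Fpqc

/-!
# Homomorphisms killing `A[n]` factor through multiplication by `n`
-/

universe u

open CategoryTheory CategoryTheory.Limits MonoidalCategory CartesianMonoidalCategory AlgebraicGeometry
open scoped MonObj

set_option backward.isDefEq.respectTransparency false

noncomputable section

namespace GrothLib.AbTors

variable {K : Type u} [Field K] {Ω : Type u} [Field Ω] [IsAlgClosed Ω]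
  (σ : Spec (CommRingCat.of Ω) ⟶ Spec (CommRingCat.of K))

/-- Geometric points at closed points. -/
theorem exists_geomPt {X : Over (Spec (CommRingCat.of K))} [LocallyOfFiniteType X.hom] (x : X.left)
    (hx : IsClosed ({x} : Set X.left)) :
    ∃ (ι' : X.left.residueField x ⟶ CommRingCat.of Ω) (t : Over.mk σ ⟶ X),
      t.left = Spec.map ι' ≫ X.left.fromSpecResidueField x := by
  haveI : IsClosedImmersion (X.left.fromSpecResidueField x) := isClosed_singleton_iff_isClosedImmersion.1 hx
  haveI : IsFinite (X.left.fromSpecResidueField x ≫ X.hom) := by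
    rw [isFinite_iff_locallyOfFiniteType_of_jacobsonSpace]
    infer_instance
  let ψ : CommRingCat.of K ⟶ X.left.residueField x := Spec.preimage (X.left.fromSpecResidueField x ≫ X.hom)
  have hψ : ψ.hom.Finite := (IsFinite.SpecMap_iff ψ).1 (by rw [Spec.map_preimage]; infer_instance)
  letI : Algebra K (X.left.residueField x) := ψ.hom.toAlgebra
  letI : Algebra K Ω := (Spec.preimage σ).hom.toAlgebra
  haveI : Module.Finite K (X.left.residueField x) := hψ
  let e : X.left.residueField x →ₐ[K] Ω := IsAlgClosed.lift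
  refine ⟨CommRingCat.ofHom e.toRingHom, Over.homMk (Spec.map (CommRingCat.ofHom e.toRingHom) ≫
    X.left.fromSpecResidueField x) ?_, rfl⟩
  show (Spec.map (CommRingCat.ofHom e.toRingHom) ≫ X.left.fromSpecResidueField x) ≫ X.hom = σ
  rw [Category.assoc, ← Spec.map_preimage (X.left.fromSpecResidueField x ≫ X.hom), ← Spec.map_comp]
  conv_rhs => rw [← Spec.map_preimage σ]
  congr 1
  ext c
  exact e.commutes c

/-- Morphisms from a reduced scheme of finite type agreeing on geometric points are equal. -/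
theorem ext_of_geomPts {X Y : Over (Spec (CommRingCat.of K))} [LocallyOfFiniteType X.hom] [IsReduced X.left]
    [IsSeparated Y.hom] (f g : X ⟶ Y) (h : ∀ t : Over.mk σ ⟶ X, t ≫ f = t ≫ g) : f = g := by
  haveI : JacobsonSpace X.left := LocallyOfFiniteType.jacobsonSpace (Y := Spec _) X.hom
  refine Over.OverMorphism.ext (ext_of_fromSpecResidueField_eq _ _ Y.hom (closedPoints X.left)
    (dense_iff_closure_eq.2 closure_closedPoints) (fun x hx => ?_) ((Over.w f).trans (Over.w g).symm))
  obtain ⟨ι', t, ht⟩ := exists_geomPt σ x hx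
  haveI : Flat (Spec.map ι') :=
    flat_of_field (K := X.left.residueField x) (Ω := Ω) (Spec.map ι')
  haveI : Surjective (Spec.map ι') :=
    surjective_of_field (K := X.left.residueField x) (Ω := Ω) (Spec.map ι')
  haveI : Epi (Spec.map ι') := Flat.epi_of_flat_of_surjective _
  rw [← cancel_epi (Spec.map ι'), ← Category.assoc, ← Category.assoc, ← ht]
  exact congrArg CommaMorphism.left (h t)

variable {A B : Over (Spec (CommRingCat.of K))} [GrpObj A] [IsCommMonObj A] [IsProper A.hom]
  [GeometricallyIntegral A.hom] [GrpObj B] [IsSeparated B.hom]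

/-- A homomorphism killing the `n`-torsion geometric points factors through multiplication by `n`. -/
theorem exists_eq_pow_comp {n : ℕ} (hn : (n : K) ≠ 0) (f : A ⟶ B) [IsMonHom f]
    (h : ∀ a : Over.mk σ ⟶ A, a ^ n = 1 → a ≫ f = 1) :
    ∃ f' : A ⟶ B, IsMonHom f' ∧ f = ((𝟙 A : A ⟶ A) ^ n) ≫ f' := by
  obtain ⟨hf, he, hs⟩ := AbMul.isFinite_etale_surjective_pow A (n : ℤ) (by exact_mod_cast hn)
  rw [zpow_natCast] at hf he hs
  haveI : IsIntegral A.left := GeometricallyIntegral.isIntegral_of_subsingleton A.hom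
  set q := (𝟙 A : A ⟶ A) ^ n with hq
  let P : Over (Spec (CommRingCat.of K)) := Over.mk (pullback.fst q.left q.left ≫ A.hom)
  haveI : IsReduced P.left :=
    @GrothLib.RedSmooth.isReduced_of_smooth _ _ (pullback.fst q.left q.left) _ inferInstance
  haveI : LocallyOfFiniteType P.hom := inferInstanceAs (LocallyOfFiniteType (pullback.fst q.left q.left ≫ A.hom))
  let p₁ : P ⟶ A := Over.homMk (pullback.fst q.left q.left) rfl
  let p₂ : P ⟶ A := Over.homMk (pullback.snd q.left q.left) (by
    show pullback.snd q.left q.left ≫ A.hom = pullback.fst q.left q.left ≫ A.hom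
    conv_rhs => rw [← Over.w q, ← Category.assoc, pullback.condition, Category.assoc, Over.w q])
  have hp : p₁ ≫ q = p₂ ≫ q := by
    ext1
    exact pullback.condition
  have key : p₁ ≫ f = p₂ ≫ f := by
    refine ext_of_geomPts σ _ _ fun t => ?_
    have e : (t ≫ p₁) ^ n = (t ≫ p₂) ^ n := by
      rw [← pow_comp_eq A (t ≫ p₁) n, ← pow_comp_eq A (t ≫ p₂) n]
      show (t ≫ p₁) ≫ q = (t ≫ p₂) ≫ q
      rw [Category.assoc, Category.assoc, hp]
    have h1 := h ((t ≫ p₁) * (t ≫ p₂)⁻¹) (by rw [mul_pow, inv_pow, e, _root_.mul_inv_cancel])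
    rw [MonObj.mul_comp, GrpObj.inv_comp, mul_inv_eq_one] at h1
    simpa using h1
  let d : A.left ⟶ B.left := EffectiveEpi.desc q.left f.left fun {Z} g₁ g₂ hg => by
    have h1 := congrArg (fun s => pullback.lift g₁ g₂ hg ≫ s.left) key
    simpa [p₁, p₂] using h1
  have hd : q.left ≫ d = f.left := EffectiveEpi.fac _ _ _
  haveI : Epi q.left := Flat.epi_of_flat_of_surjective _
  let f' : A ⟶ B := Over.homMk d (by rw [← cancel_epi q.left, ← Category.assoc, hd, Over.w f, Over.w q])
  have hf' : f = q ≫ f' := by ext1; exact hd.symm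
  refine ⟨f', ?_, hf'⟩
  haveI : IsMonHom q := GrpDeligne.isMonHom_pow (𝟙 A) n
  refine GrothLib.Rigidity.isMonHom_of_one_comp f' ?_
  rw [← IsMonHom.one_hom q, Category.assoc, ← hf', IsMonHom.one_hom f]

/-- A homomorphism whose Tate map is divisible by `l^m` is divisible by `l^m`. -/
theorem exists_eq_pow_comp_of_tateMap_eq_smul [IsCommMonObj B] (l : ℕ) [hl : Fact l.Prime] (hlK : (l : K) ≠ 0)
    (f : A ⟶ B) [IsMonHom f] (m : ℕ) (u : AbDual.TateMod A l (Over.mk σ) →ₗ[ℤ_[l]] AbDual.TateMod B l (Over.mk σ))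
    (hu : AbDual.tateMapₗ (l := l) (T := Over.mk σ) f = ((l : ℤ_[l]) ^ m) • u) :
    ∃ f' : A ⟶ B, IsMonHom f' ∧ f = ((𝟙 A : A ⟶ A) ^ (l ^ m)) ≫ f' := by
  refine exists_eq_pow_comp σ (by rw [Nat.cast_pow]; exact pow_ne_zero _ hlK) f fun a ha => ?_
  obtain ⟨z, hz⟩ := exists_component_eq A σ l hlK m (x := Additive.ofMul a) (congrArg Additive.ofMul ha)
  have h3 : ((AbDual.tateMapₗ (l := l) f z : AbDual.TateMod B l (Over.mk σ)) : ℕ → Additive (Over.mk σ ⟶ B)) m =
      Additive.ofMul (((z : ℕ → Additive (Over.mk σ ⟶ A)) m).toMul ≫ f) := rfl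
  rw [hu, LinearMap.smul_apply, ← Nat.cast_pow, Nat.cast_smul_eq_nsmul, hz] at h3
  have h4 : (l ^ m) • ((u z : AbDual.TateMod B l (Over.mk σ)) : ℕ → Additive (Over.mk σ ⟶ B)) m = 0 :=
    (u z).torsion m
  exact congrArg Additive.toMul ((h3.symm.trans h4 :) : Additive.ofMul (a ≫ f) = 0)

end GrothLib.AbTors
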