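import Groth.Agent.Lib.AbTors.Dense
import Groth.Agent.Lib.AbTors.Tate
import Mathlib.AlgebraicGeometry.Morphisms.FlatDescent

/-!
# A homomorphism killing the torsion of `l`-power order is trivial
-/

universe u

open CategoryTheory CategoryTheory.Limits MonoidalCategory CartesianMonoidalCategory AlgebraicGeometry
open scoped MonObj

set_option backward.isDefEq.respectTransparency false

noncomputable section

namespace GrothLib.AbTors

open GrothLib.Cube

variable {K : Type u} [Field K] {Ω : Type u} [Field Ω] (σ : Spec (CommRingCat.of Ω) ⟶ Spec (CommRingCat.of K))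

theorem flat_of_field : Flat σ := by
  rw [← Spec.map_preimage σ, Flat.SpecMap_iff]
  letI : Algebra K Ω := (Spec.preimage σ).hom.toAlgebra
  show Module.Flat K Ω
  infer_instance

theorem surjective_of_field : Surjective σ :=
  ⟨fun x => ⟨IsLocalRing.closedPoint Ω, Subsingleton.elim _ _⟩⟩

variable {A B : Over (Spec (CommRingCat.of K))}

/-- The `Ω`-valued point of `A` below a point of the base change. -/
def projPt (b : 𝟙_ (Over (Spec (CommRingCat.of Ω))) ⟶ (Over.pullback σ).obj A) : Over.mk σ ⟶ A :=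
  Over.homMk (b.left ≫ pullback.fst A.hom σ) (by
    show (b.left ≫ pullback.fst A.hom σ) ≫ A.hom = σ
    have h : b.left ≫ pullback.snd A.hom σ = 𝟙 _ := Over.w b
    rw [Category.assoc, pullback.condition, ← Category.assoc, h, Category.id_comp])

theorem projPt_comp (b : 𝟙_ (Over (Spec (CommRingCat.of Ω))) ⟶ (Over.pullback σ).obj A) (f : A ⟶ B) :
    projPt σ (b ≫ (Over.pullback σ).map f) = projPt σ b ≫ f := by
  ext1
  show (b ≫ (Over.pullback σ).map f).left ≫ pullback.fst B.hom σ = (b.left ≫ pullback.fst A.hom σ) ≫ f.left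
  simp

theorem projPt_injective {b b' : 𝟙_ (Over (Spec (CommRingCat.of Ω))) ⟶ (Over.pullback σ).obj A}
    (h : projPt σ b = projPt σ b') : b = b' := by
  ext1
  apply pullback.hom_ext
  · exact congrArg CommaMorphism.left h
  · exact (Over.w b).trans (Over.w b').symm

attribute [local instance] Functor.monObjObj Functor.grpObjObj

theorem projPt_pow [GrpObj A] [IsCommMonObj A]
    (b : 𝟙_ (Over (Spec (CommRingCat.of Ω))) ⟶ (Over.pullback σ).obj A) (m : ℕ) :
    projPt σ (b ^ m) = projPt σ b ^ m := by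
  have h : b ^ m = b ≫ (Over.pullback σ).map ((𝟙 A : A ⟶ A) ^ m) := by
    show b ^ m = b ≫ Functor.homMonoidHom (Over.pullback σ) ((𝟙 A : A ⟶ A) ^ m)
    rw [map_pow, MonObj.comp_pow]
    show b ^ m = (b ≫ (Over.pullback σ).map (𝟙 A)) ^ m
    rw [CategoryTheory.Functor.map_id, Category.comp_id]
  rw [h, projPt_comp, pow_comp_eq_all]
where
  pow_comp_eq_all [GrpObj A] {T : Over (Spec (CommRingCat.of K))} (a : T ⟶ A) (n : ℕ) :
      a ≫ (𝟙 A : A ⟶ A) ^ n = a ^ n := by
    rw [MonObj.comp_pow, Category.comp_id]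

variable [GrpObj A] [IsCommMonObj A] [IsProper A.hom] [GeometricallyIntegral A.hom]
  [GrpObj B] [IsSeparated B.hom] [LocallyOfFiniteType B.hom] [IsAlgClosed Ω] {l : ℕ}

/-- A morphism which is trivial on all `l`-power torsion geometric points is trivial. -/
theorem eq_one_of_forall_tors (hl1 : 1 < l) (hlK : (l : K) ≠ 0) (f : A ⟶ B)
    (h : ∀ (n : ℕ) (a : Over.mk σ ⟶ A), a ^ (l ^ n) = 1 → a ≫ f = 1) : f = 1 := by
  let P := Over.pullback σ
  haveI : IsCommMonObj (P.obj A) := Functor.isCommMonObj_obj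
  haveI : IsProper (P.obj A).hom := inferInstanceAs (IsProper (pullback.snd A.hom σ))
  haveI : GeometricallyIntegral (P.obj A).hom := inferInstanceAs (GeometricallyIntegral (pullback.snd A.hom σ))
  haveI : IsSeparated (P.obj B).hom := inferInstanceAs (IsSeparated (pullback.snd B.hom σ))
  haveI : LocallyOfFiniteType (P.obj B).hom := inferInstanceAs (LocallyOfFiniteType (pullback.snd B.hom σ))
  haveI : IsIntegral (P.obj A).left := GeometricallyIntegral.isIntegral_of_subsingleton (P.obj A).hom
  have hlΩ : (l : Ω) ≠ 0 := by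
    let φ := (Spec.preimage σ).hom
    intro h0
    exact hlK (φ.injective (by rw [map_natCast, h0, map_zero]))
  have key : P.map f = P.map 1 := by
    refine Over.OverMorphism.ext (ext_of_fromSpecResidueField_eq _ _ (P.obj B).hom
      ((fun a => ptOf a) '' primePowTors (P.obj A) l) (dense_primePowTors (P.obj A) hl1 hlΩ) ?_
      ((Over.w (P.map f)).trans (Over.w (P.map (1 : A ⟶ B))).symm))
    rintro _ ⟨b, ⟨n, hn⟩, rfl⟩
    have hb : b ≫ P.map f = b ≫ P.map 1 := by
      refine projPt_injective σ ?_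
      rw [projPt_comp, projPt_comp, h n (projPt σ b) ?_, MonObj.comp_one]
      rw [← projPt_pow, hn]
      have e : (1 : 𝟙_ (Over (Spec (CommRingCat.of Ω))) ⟶ P.obj A) = b ^ 0 := (pow_zero b).symm
      rw [e, projPt_pow, pow_zero]
    refine fromSpecResidueField_comp_eq (P.obj A).hom b _ _ ?_
    exact congrArg CommaMorphism.left hb
  haveI := flat_of_field σ
  haveI := surjective_of_field σ
  haveI : Epi (pullback.fst A.hom σ) := Flat.epi_of_flat_of_surjective _
  ext1
  rw [← cancel_epi (pullback.fst A.hom σ)]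
  have := congrArg (fun g => g.left ≫ pullback.fst B.hom σ) key
  simpa only [P, Over.pullback_map_left, pullback.lift_fst] using this
where
  fromSpecResidueField_comp_eq {X Y : Scheme.{u}} (i : X ⟶ Spec (CommRingCat.of Ω)) [LocallyOfFiniteType i]
      (b : 𝟙_ (Over (Spec (CommRingCat.of Ω))) ⟶ Over.mk i) (f g : X ⟶ Y) (h : b.left ≫ f = b.left ≫ g) :
      X.fromSpecResidueField (ptOf b) ≫ f = X.fromSpecResidueField (ptOf b) ≫ g := by
    haveI : LocallyOfFiniteType (Over.mk i).hom := ‹LocallyOfFiniteType i›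
    have hx : IsClosed ({ptOf b} : Set X) := isClosed_ptOf b
    have e : Spec.map (residueFieldIsoBase i (ptOf b) hx).hom ≫ X.fromSpecResidueField (ptOf b) = b.left :=
      ext_of_apply_closedPoint_eq i (pointOfClosedPoint_comp i _ hx) (Over.w b)
        (pointOfClosedPoint_apply i _ hx _)
    rw [← cancel_epi (Spec.map (residueFieldIsoBase i (ptOf b) hx).hom), ← Category.assoc, ← Category.assoc, e]
    exact h

/-- A homomorphism inducing zero on Tate modules is trivial. -/
theorem eq_one_of_tateMap_eq_zero {A B : Over (Spec (CommRingCat.of K))} [GrpObj A] [IsCommMonObj A]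
    [IsProper A.hom] [GeometricallyIntegral A.hom] [GrpObj B] [IsCommMonObj B] [IsSeparated B.hom]
    [LocallyOfFiniteType B.hom] (l : ℕ) [hl : Fact l.Prime] (hlK : (l : K) ≠ 0) (f : A ⟶ B) [IsMonHom f]
    (h : ∀ z : AbDual.TateMod A l (Over.mk σ), AbDual.tateMapₗ (l := l) f z = 0) : f = 1 := by
  refine eq_one_of_forall_tors σ hl.out.one_lt hlK f fun n a ha => ?_
  obtain ⟨z, hz⟩ := exists_component_eq A σ l hlK n (x := Additive.ofMul a) (congrArg Additive.ofMul ha)
  have h2 : Additive.ofMul (((z : ℕ → Additive (Over.mk σ ⟶ A)) n).toMul ≫ f) = 0 :=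
    congrArg (fun w : AbDual.TateMod B l (Over.mk σ) => (w : ℕ → Additive (Over.mk σ ⟶ B)) n) (h z)
  rw [hz] at h2
  exact congrArg Additive.toMul h2

end GrothLib.AbTors
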