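import Groth.Agent.Lib.AbTors.Tate
import Mathlib.Data.ZMod.QuotientRing
import Mathlib.Data.Nat.Factorization.Induction

/-!
# The structure of the torsion of a divisible abelian group
-/

universe u

namespace GrothLib.AbTors

section Abstract

variable (M : Type u) [AddCommGroup M]

/-- The elements killed by `n`. -/
def nTors (n : ℕ) : AddSubgroup M := (nsmulAddMonoidHom n : M →+ M).ker

theorem mem_nTors {n : ℕ} {x : M} : x ∈ nTors M n ↔ n • x = 0 := Iff.rfl

/-- A basis of a finite group killed by a prime. -/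
theorem exists_fp_basis {G : Type u} [AddCommGroup G] [Finite G] (p : ℕ) [Fact p.Prime] (hz : ∀ x : G, p • x = 0) :
    ∃ (r : ℕ) (b : Fin r → G), Nat.card G = p ^ r ∧
      (∀ c : Fin r → ℤ, ∑ i, c i • b i = 0 → ∀ i, (p : ℤ) ∣ c i) ∧ ∀ x, ∃ c : Fin r → ℤ, ∑ i, c i • b i = x := by
  have hmod : Module (ZMod p) G := AddCommGroup.zmodModule hz
  have hfin : Module.Finite (ZMod p) G := Module.Finite.of_finite
  let b := Module.finBasis (ZMod p) G
  refine ⟨_, fun i => b i, ?_, fun c hc i => ?_, fun x => ⟨fun i => ((b.repr x i).val : ℤ), ?_⟩⟩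
  · rw [Module.natCard_eq_pow_finrank (K := ZMod p), Nat.card_zmod]
  · rw [← ZMod.intCast_zmod_eq_zero_iff_dvd]
    refine Fintype.linearIndependent_iff.1 b.linearIndependent (fun i => ((c i : ℤ) : ZMod p)) ?_ i
    simp_rw [Int.cast_smul_eq_zsmul]
    exact hc
  · conv_rhs => rw [← b.sum_repr x]
    refine Finset.sum_congr rfl fun i _ => ?_
    rw [natCast_zsmul, ← Nat.cast_smul_eq_nsmul (ZMod p), ZMod.natCast_zmod_val]

/-- The `p`-power torsion of a `p`-divisible group with `r` dimensional `p`-torsion. -/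
theorem nonempty_nTors_pow_equiv (p : ℕ) [hp : Fact p.Prime] [Finite (nTors M p)]
    (hdiv : ∀ x : M, ∃ y, p • y = x) :
    ∃ r : ℕ, Nat.card (nTors M p) = p ^ r ∧
      ∀ m : ℕ, Nonempty (nTors M (p ^ m) ≃+ (Fin r → ZMod (p ^ m))) := by
  obtain ⟨r, b, hr, hind, hspan⟩ := exists_fp_basis (G := nTors M p) p fun x => Subtype.ext x.2
  choose half hhalf using hdiv
  -- compatible lifts of the basis
  let e : ℕ → Fin r → M := fun m i => half^[m] (b i)
  have he : ∀ m i, p • e (m + 1) i = e m i := fun m i => by
    show p • half^[m + 1] (b i : M) = half^[m] (b i : M)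
    rw [Function.iterate_succ_apply', hhalf]
  have hep : ∀ m i, (p ^ m) • e m i = (b i : M) := by
    intro m i
    induction m with
    | zero => simp [e]
    | succ m ih => rw [pow_succ, mul_nsmul', he, ih]
  have hetor : ∀ m i, (p ^ (m + 1)) • e m i = 0 := fun m i => by
    rw [pow_succ', mul_nsmul', hep]
    exact (b i).2
  refine ⟨r, hr, fun m => ?_⟩
  cases m with
  | zero =>
    haveI : Subsingleton (nTors M (p ^ 0)) := subsingleton_of_forall_eq 0 fun x => Subtype.ext (by
      have := (mem_nTors M).1 x.2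
      exact (one_nsmul (x : M)).symm.trans ((congrArg (· • (x : M)) (pow_zero p).symm).trans this))
    haveI : Subsingleton (ZMod (p ^ 0)) := by rw [pow_zero]; infer_instance
    exact ⟨⟨equivOfSubsingletonOfSubsingleton (fun _ => 0) (fun _ => 0), fun _ _ => Subsingleton.elim _ _⟩⟩
    
  | succ m =>
    -- evaluation on vectors of integers
    let ev : ∀ j : ℕ, (Fin r → ℤ) →+ M := fun j =>
      { toFun := fun c => ∑ i, c i • e j i
        map_zero' := by simp
        map_add' := fun c d => by simp [add_smul, Finset.sum_add_distrib] }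
    have hker : ∀ (j : ℕ) (c : Fin r → ℤ), ev j c = 0 → ∀ i, ((p : ℤ) ^ (j + 1)) ∣ c i := by
      intro j
      induction j with
      | zero =>
        intro c hc i
        rw [zero_add, pow_one]
        refine hind c (Subtype.ext ?_) i
        rw [AddSubgroup.val_finsetSum, ZeroMemClass.coe_zero]
        exact hc
      | succ j ih =>
        intro c hc i
        have h1 : ev j c = 0 := by
          rw [← smul_zero (p : ℕ), ← hc]
          show ∑ i, c i • e j i = p • ∑ i, c i • e (j + 1) i
          rw [Finset.smul_sum]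
          exact Finset.sum_congr rfl fun i _ => by rw [smul_comm, he]
        have h2 : ∀ i, (p : ℤ) ∣ c i := fun i => (dvd_pow_self (p : ℤ) (Nat.succ_ne_zero j)).trans (ih c h1 i)
        choose d hd using h2
        have h3 : ev j d = 0 := by
          rw [← hc]
          show ∑ i, d i • e j i = ∑ i, c i • e (j + 1) i
          refine Finset.sum_congr rfl fun i _ => ?_
          rw [hd i, mul_comm, mul_smul, natCast_zsmul, he]
        rw [hd i, pow_succ' (p : ℤ) (j + 1)]
        exact mul_dvd_mul_left _ (ih d h3 i)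
    have hsurj : ∀ (j : ℕ) (x : M), (p ^ (j + 1)) • x = 0 → ∃ c, ev j c = x := by
      intro j
      induction j with
      | zero =>
        intro x hx
        rw [zero_add, pow_one] at hx
        obtain ⟨c, hc⟩ := hspan ⟨x, hx⟩
        have h1 := congrArg Subtype.val hc
        rw [AddSubgroup.val_finsetSum] at h1
        exact ⟨c, h1⟩
      | succ j ih =>
        intro x hx
        obtain ⟨c, hc⟩ := ih (p • x) (by rw [← mul_nsmul', ← pow_succ]; exact hx)
        have hy : p • (x - ev (j + 1) c) = 0 := by
          rw [smul_sub, sub_eq_zero, ← hc]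
          show ∑ i, c i • e j i = p • ∑ i, c i • e (j + 1) i
          rw [Finset.smul_sum]
          exact Finset.sum_congr rfl fun i _ => by rw [smul_comm, he]
        obtain ⟨t, ht⟩ := hspan ⟨x - ev (j + 1) c, hy⟩
        have h1 := congrArg Subtype.val ht
        rw [AddSubgroup.val_finsetSum] at h1
        refine ⟨c + fun i => (p : ℤ) ^ (j + 1) * t i, ?_⟩
        rw [map_add, ← eq_sub_iff_add_eq']
        show ∑ i, ((p : ℤ) ^ (j + 1) * t i) • e (j + 1) i = _
        refine Eq.trans (Finset.sum_congr rfl fun i _ => ?_) h1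
        rw [mul_comm, mul_smul, ← Nat.cast_pow, natCast_zsmul, hep]
        rfl
    let red : (Fin r → ℤ) →+ (Fin r → ZMod (p ^ (m + 1))) :=
      (Int.castAddHom (ZMod (p ^ (m + 1)))).compLeft (Fin r)
    let ev' : (Fin r → ℤ) →+ nTors M (p ^ (m + 1)) := (ev m).codRestrict _ fun c => by
      rw [mem_nTors]
      show (p ^ (m + 1)) • ∑ i, c i • e m i = 0
      rw [Finset.smul_sum]
      exact Finset.sum_eq_zero fun i _ => by rw [smul_comm, hetor, smul_zero]
    have hs : Function.Surjective ev' := fun x => by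
      obtain ⟨c, hc⟩ := hsurj m x.1 x.2
      exact ⟨c, Subtype.ext hc⟩
    have hred : Function.Surjective red := fun v =>
      ⟨fun i => ((v i).val : ℤ), funext fun i => by simp [red]⟩
    have hk : ev'.ker = red.ker := by
      ext c
      rw [AddMonoidHom.mem_ker, AddMonoidHom.mem_ker]
      refine ⟨fun h => funext fun i => ?_, fun h => Subtype.ext ?_⟩
      · show ((c i : ℤ) : ZMod (p ^ (m + 1))) = 0
        rw [ZMod.intCast_zmod_eq_zero_iff_dvd, Nat.cast_pow]
        exact hker m c (congrArg Subtype.val h) i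
      · show ∑ i, c i • e m i = 0
        refine Finset.sum_eq_zero fun i _ => ?_
        have hi : ((c i : ℤ) : ZMod (p ^ (m + 1))) = 0 := congrFun h i
        obtain ⟨d, hd⟩ := (ZMod.intCast_zmod_eq_zero_iff_dvd _ _).1 hi
        rw [hd, mul_comm, mul_smul, natCast_zsmul, hetor, smul_zero]
    exact ⟨((QuotientAddGroup.quotientKerEquivOfSurjective ev' hs).symm.trans
      (QuotientAddGroup.quotientAddEquivOfEq hk)).trans (QuotientAddGroup.quotientKerEquivOfSurjective red hred)⟩

/-- If the prime power torsion has `r` generators, so has all torsion. -/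
theorem nonempty_nTors_equiv (r : ℕ) {n : ℕ} (hn : n ≠ 0)
    (h : ∀ p m : ℕ, p.Prime → p ^ m ∣ n → Nonempty (nTors M (p ^ m) ≃+ (Fin r → ZMod (p ^ m)))) :
    Nonempty (nTors M n ≃+ (Fin r → ZMod n)) := by
  induction n using Nat.recOnPosPrimePosCoprime with
  | prime_pow p m hp hm => exact h p m hp dvd_rfl
  | zero => exact absurd rfl hn
  | one =>
    haveI : Subsingleton (nTors M 1) := subsingleton_of_forall_eq 0 fun x => Subtype.ext (by
      have := x.2
      rwa [mem_nTors, one_nsmul] at this)
    exact ⟨⟨equivOfSubsingletonOfSubsingleton (fun _ => 0) (fun _ => 0), fun _ _ => Subsingleton.elim _ _⟩⟩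
  | coprime a b ha hb hab iha ihb =>
    obtain ⟨ea⟩ := iha (by omega) fun p m hp hd => h p m hp (hd.mul_right _)
    obtain ⟨eb⟩ := ihb (by omega) fun p m hp hd => h p m hp (hd.mul_left _)
    let f : nTors M a × nTors M b →+ nTors M (a * b) :=
      (AddSubgroup.inclusion (fun x hx => by
        rw [mem_nTors] at hx ⊢
        rw [mul_comm, mul_nsmul', hx, smul_zero] : nTors M a ≤ nTors M (a * b))).coprod
      (AddSubgroup.inclusion (fun x hx => by
        rw [mem_nTors] at hx ⊢
        rw [mul_nsmul', hx, smul_zero] : nTors M b ≤ nTors M (a * b)))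
    obtain ⟨u, v, huv⟩ : ∃ u v : ℤ, u * a + v * b = 1 :=
      ⟨Nat.gcdA a b, Nat.gcdB a b, by
        have := Nat.gcd_eq_gcd_ab a b
        rw [hab.gcd_eq_one] at this
        push_cast at this
        linarith⟩
    have hf : Function.Bijective f := by
      refine ⟨(injective_iff_map_eq_zero f).2 ?_, fun x => ?_⟩
      · rintro ⟨⟨x, hx⟩, ⟨y, hy⟩⟩ hxy
        have h0 : x + y = 0 := congrArg Subtype.val hxy
        rw [mem_nTors] at hx hy
        have hx0 : x = 0 := by
          have e1 : (b : ℤ) • x = 0 := by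
            rw [eq_neg_of_add_eq_zero_left h0, smul_neg, natCast_zsmul, hy, neg_zero]
          rw [← one_zsmul x, ← huv, add_smul, mul_smul, mul_smul, natCast_zsmul, hx, e1, smul_zero, smul_zero,
            add_zero]
        subst hx0
        rw [zero_add] at h0
        subst h0
        rfl
      · obtain ⟨x, hx⟩ := x
        rw [mem_nTors] at hx
        refine ⟨⟨⟨(v * b) • x, ?_⟩, ⟨(u * a) • x, ?_⟩⟩, Subtype.ext ?_⟩
        · rw [mem_nTors, smul_comm, mul_smul, natCast_zsmul, ← mul_nsmul', mul_comm b a, hx, smul_zero]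
        · rw [mem_nTors, smul_comm, mul_smul, natCast_zsmul, ← mul_nsmul', hx, smul_zero]
        · show (v * b) • x + (u * a) • x = x
          rw [← add_smul, add_comm, huv, one_zsmul]
    exact ⟨((AddEquiv.ofBijective f hf).symm.trans (ea.prodCongr eb)).trans
      ((⟨(Equiv.arrowProdEquivProdArrow (Fin r) (fun _ => ZMod a) (fun _ => ZMod b)).symm, fun _ _ => rfl⟩ :
        ((Fin r → ZMod a) × (Fin r → ZMod b)) ≃+ (Fin r → ZMod a × ZMod b)).trans
        (AddEquiv.piCongrRight fun _ => (ZMod.chineseRemainder hab).symm.toAddEquiv))⟩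

end Abstract

end GrothLib.AbTors
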