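import Groth.Agent.Lib.AbTors.Structure

/-!
# The structure of the torsion points of an abelian variety
-/

universe u

open CategoryTheory CategoryTheory.Limits MonoidalCategory CartesianMonoidalCategory AlgebraicGeometry
open scoped MonObj

set_option backward.isDefEq.respectTransparency false

noncomputable section

namespace GrothLib.AbTors

open AbDual

variable {K : Type u} [Field K] (A : Over (Spec (CommRingCat.of K))) [GrpObj A] [IsCommMonObj A]

/-- Torsion points, written additively. -/
def torsPtsEquiv (n : ℕ) (T : Over (Spec (CommRingCat.of K))) :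
    torsPts A n T ≃* Multiplicative (nTors (Additive (T ⟶ A)) n) where
  toFun a := Multiplicative.ofAdd ⟨Additive.ofMul a.1, a.2⟩
  invFun a := ⟨a.toAdd.1.toMul, a.toAdd.2⟩
  left_inv _ := rfl
  right_inv _ := rfl
  map_mul' _ _ := rfl

theorem finite_nTors (n : ℕ) (T : Over (Spec (CommRingCat.of K))) [Finite (torsPts A n T)] :
    Finite (nTors (Additive (T ⟶ A)) n) :=
  Finite.of_equiv _ ((torsPtsEquiv A n T).toEquiv.trans Multiplicative.toAdd)

variable [IsProper A.hom] [GeometricallyIntegral A.hom] {Ω : Type u} [Field Ω] [IsAlgClosed Ω]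
  (σ : Spec (CommRingCat.of Ω) ⟶ Spec (CommRingCat.of K))

/-- `A[n](Ω)` is free of rank `2g` over `ℤ/n` for `n` invertible. -/
theorem nonempty_torsPts_equiv {g : ℕ} (hg : topologicalKrullDim A.left = (g : WithBot ℕ∞)) {n : ℕ}
    (hn : (n : K) ≠ 0) :
    Nonempty (torsPts A n (Over.mk σ) ≃* Multiplicative (Fin (2 * g) → ZMod n)) := by
  have hn0 : n ≠ 0 := by rintro rfl; exact hn (by simp)
  refine (nonempty_nTors_equiv (Additive (Over.mk σ ⟶ A)) (2 * g) hn0 fun p m hp hd => ?_).map fun e =>
    (torsPtsEquiv A n (Over.mk σ)).trans (AddEquiv.toMultiplicative e)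
  cases m with
  | zero =>
    haveI : Subsingleton (nTors (Additive (Over.mk σ ⟶ A)) (p ^ 0)) := subsingleton_of_forall_eq 0 fun x =>
      Subtype.ext ((one_nsmul _).symm.trans ((congrArg (· • (x : Additive (Over.mk σ ⟶ A))) (pow_zero p).symm).trans x.2))
    haveI : Subsingleton (ZMod (p ^ 0)) := by rw [pow_zero]; infer_instance
    exact ⟨⟨equivOfSubsingletonOfSubsingleton (fun _ => 0) (fun _ => 0), fun _ _ => Subsingleton.elim _ _⟩⟩
  | succ m =>
    haveI := Fact.mk hp
    have hpK : (p : K) ≠ 0 := by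
      intro h0
      obtain ⟨c, rfl⟩ := hd
      exact hn (by push_cast; rw [h0, zero_pow (Nat.succ_ne_zero m), zero_mul])
    have hc := card_torsPts A hg hpK σ
    haveI : Finite (torsPts A p (Over.mk σ)) := Nat.finite_of_card_ne_zero (by
      rw [hc]; exact pow_ne_zero _ hp.ne_zero)
    haveI := finite_nTors A p (Over.mk σ)
    obtain ⟨r, hr, he⟩ := nonempty_nTors_pow_equiv (Additive (Over.mk σ ⟶ A)) p fun x => by
      obtain ⟨b, hb⟩ := exists_pow_eq A σ hpK x.toMul
      exact ⟨Additive.ofMul b, congrArg Additive.ofMul hb⟩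
    rw [Nat.card_congr ((torsPtsEquiv A p (Over.mk σ)).toEquiv.trans Multiplicative.toAdd), hr] at hc
    obtain rfl := Nat.pow_right_injective hp.two_le hc
    exact he (m + 1)

end GrothLib.AbTors
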